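import Cfsg.Agent.Lib.Extra.SuzUnique.CertTools
import Cfsg.Agent.Lib.Extra.SuzUnique.Short.Four.Data

/-! Generated certificate. -/

set_option autoImplicit false
set_option maxRecDepth 20000

namespace Cfsg.Lib.Extra.SuzUnique.ShortFour

open Cfsg.Lib.CosetEnum

theorem defs_0 : defsOK tabF 725 0 = true := by decide +kernel

theorem steps_0 : stepsOK relWords subWords tabF tabC 725 932 0 = true := by decide +kernel

theorem closed_0 : closedOK tabF tabZ tabP 1657 135 4 [0, 1, 2, 3] 135 0 = true := by decide +kernel

theorem steps_all : stepsOK relWords subWords tabF tabC 725 932 0 = true :=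
  steps_0

theorem defs_all : defsOK tabF 725 0 = true :=
  defs_0

theorem closed_all : closedOK tabF tabZ tabP 1657 135 4 [0, 1, 2, 3] 135 0 = true :=
  closed_0

/-- The step. -/
def step : StepCert :=
  ⟨relWords, subWords, [0, 1, 2, 3], tabF, tabC, tabZ, tabP, 725, 932, 135, 4⟩

theorem step_valid {R0 : List (List Nat)} (h : shiftsOK R0 relWords = true) : step.Valid R0 where
  pos := by decide +kernel
  shifts := h
  defs := defs_all
  steps := steps_all
  closed := closed_all

end Cfsg.Lib.Extra.SuzUnique.ShortFour
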